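import Mathlib

/-!
# Prime degree: a translation and an element inverting it

A transitive group of odd prime degree `p` whose Sylow `p`-normaliser has even order contains,
after labelling the points by `ZMod p`, the maps `i ↦ i + 1` and `i ↦ -i`.
-/

namespace Cfsg.Agent.PrimeDegree

open Subgroup

/-- Labelling of a set of size `p` by a fixed-point-free element of order `p`. -/
theorem exists_cyclic_labelling {Γ Ω : Type*} [Group Γ] [MulAction Γ Ω] [Fintype Ω] {p : ℕ}
    [hp : Fact p.Prime] (hΩ : Fintype.card Ω = p) {σ : Γ} (hσ : orderOf σ = p)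
    (hmov : ∀ x : Ω, σ • x ≠ x) (a : Ω) :
    ∃ e : ZMod p ≃ Ω, e 0 = a ∧ (∀ i, σ • e i = e (i + 1)) ∧
      ∀ (n : ℕ) (i : ZMod p), σ ^ n • e i = e (i + n) := by
  classical
  let e0 : ZMod p → Ω := fun j => σ ^ j.val • a
  have he0 : ∀ n : ℕ, e0 (n : ZMod p) = σ ^ n • a := fun n => by
    show σ ^ (n : ZMod p).val • a = _
    rw [ZMod.val_natCast, ← hσ, pow_mod_orderOf]
  have hinj : Function.Injective e0 := by
    intro i j hij
    by_contra hne
    wlog hlt : i.val < j.val generalizing i j with H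
    · exact H hij.symm (Ne.symm hne)
        (lt_of_le_of_ne (not_lt.1 hlt) fun e => hne (ZMod.val_injective p e).symm)
    have hm : σ ^ (j.val - i.val) ∈ MulAction.stabilizer Γ a := by
      rw [MulAction.mem_stabilizer_iff]
      apply smul_left_cancel (σ ^ i.val)
      rw [← mul_smul, ← pow_add, Nat.add_sub_cancel' hlt.le]
      exact hij.symm
    have hcop : Nat.Coprime (j.val - i.val) (orderOf σ) := by
      rw [hσ, Nat.coprime_comm, hp.out.coprime_iff_not_dvd]
      exact fun hd => by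
        have := Nat.le_of_dvd (by omega) hd
        have := j.val_lt
        omega
    obtain ⟨m, hm'⟩ := exists_pow_eq_self_of_coprime hcop
    exact hmov a (hm' ▸ pow_mem hm m : σ ∈ MulAction.stabilizer Γ a)
  have hbij : Function.Bijective e0 :=
    (Fintype.bijective_iff_injective_and_card e0).2 ⟨hinj, by rw [ZMod.card, hΩ]⟩
  have hpow : ∀ (n : ℕ) (i : ZMod p), σ ^ n • e0 i = e0 (i + n) := fun n i => by
    conv_rhs => rw [← ZMod.natCast_zmod_val i, ← Nat.cast_add, he0]
    show σ ^ n • σ ^ i.val • a = _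
    rw [← mul_smul, ← pow_add, add_comm]
  refine ⟨Equiv.ofBijective e0 hbij, ?_, fun i => ?_, hpow⟩
  · show σ ^ (0 : ZMod p).val • a = a
    rw [ZMod.val_zero, pow_zero, one_smul]
  · have h := hpow 1 i
    rw [pow_one, Nat.cast_one] at h
    exact h

/-- Labelling adapted to a fixed-point-free `σ` and an involution inverting it. -/
theorem exists_inverted_labelling {Γ Ω : Type*} [Group Γ] [MulAction Γ Ω] [Fintype Ω] {p : ℕ}
    [hp : Fact p.Prime] (hp2 : p ≠ 2) (hΩ : Fintype.card Ω = p) {σ τ : Γ} (hσ : orderOf σ = p)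
    (hτ : orderOf τ = 2) (hinv : τ * σ * τ⁻¹ = σ⁻¹) (hmov : ∀ x : Ω, σ • x ≠ x) :
    ∃ e : ZMod p ≃ Ω, (∀ i, σ • e i = e (i + 1)) ∧ ∀ i, τ • e i = e (-i) := by
  classical
  have h2 : Fact (Nat.Prime 2) := ⟨Nat.prime_two⟩
  have hpg : IsPGroup 2 (zpowers τ) :=
    IsPGroup.of_card (n := 1) (by rw [Nat.card_zpowers, hτ, pow_one])
  obtain ⟨a, ha⟩ := hpg.nonempty_fixed_point_of_prime_not_dvd_card Ω (by
    rw [Nat.card_eq_fintype_card, hΩ]
    exact fun h => hp2 ((Nat.prime_dvd_prime_iff_eq Nat.prime_two hp.out).1 h).symm)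
  have hτa : τ • a = a := ha ⟨τ, mem_zpowers τ⟩
  obtain ⟨e, he0, he1, hen⟩ := exists_cyclic_labelling hΩ hσ hmov a
  refine ⟨e, he1, fun i => ?_⟩
  have h1 : e i = σ ^ i.val • a := by
    rw [← he0, hen, zero_add, ZMod.natCast_zmod_val]
  have h2' : τ * σ ^ i.val = (σ ^ i.val)⁻¹ * τ := by
    rw [← inv_pow, ← hinv, conj_pow, inv_mul_cancel_right]
  rw [h1, ← mul_smul, h2', mul_smul, hτa, inv_smul_eq_iff, ← he0, hen, ZMod.natCast_zmod_val,
    neg_add_cancel]

/-- The translation and the inverting involution. -/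
theorem exists_inverting {α : Type*} [Fintype α] [DecidableEq α] {p : ℕ} [hp : Fact p.Prime]
    (hp2 : p ≠ 2) (hα : Fintype.card α = p) (G : Subgroup (Equiv.Perm α))
    [MulAction.IsPretransitive G α] (P : Sylow p G)
    (heven : Even (Nat.card (normalizer ((P : Subgroup G) : Set G)))) :
    ∃ σ τ : G, orderOf σ = p ∧ orderOf τ = 2 ∧ τ * σ * τ⁻¹ = σ⁻¹ ∧ ∀ x : α, σ • x ≠ x := by
  classical
  have h2 : Fact (Nat.Prime 2) := ⟨Nat.prime_two⟩
  obtain ⟨a⟩ : Nonempty α := Fintype.card_pos_iff.1 (hα ▸ hp.out.pos)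
  have hpG : p ∣ Nat.card G := by
    rw [← hα, ← Nat.card_eq_fintype_card, ← MulAction.index_stabilizer_of_transitive G a]
    exact index_dvd_card _
  have hcop : Nat.Coprime p (p - 1).factorial :=
    (Nat.Prime.coprime_iff_not_dvd hp.out).2 fun h => by
      have := (Nat.Prime.dvd_factorial hp.out).1 h
      have := hp.out.pos
      omega
  have hPp : Nat.card P = p := by
    obtain ⟨k, hk⟩ := IsPGroup.iff_card.1 P.isPGroup'
    have h1 : p ∣ Nat.card P := P.dvd_card_of_dvd_card hpG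
    have hd : Nat.card P ∣ p * (p - 1).factorial := by
      rw [Nat.mul_factorial_pred hp.out.ne_zero]
      refine ((P : Subgroup G).card_subgroup_dvd_card).trans ?_
      refine G.card_subgroup_dvd_card.trans ?_
      rw [Nat.card_perm, Nat.card_eq_fintype_card, hα]
    exact Nat.dvd_antisymm (Nat.Coprime.dvd_of_dvd_mul_right (by rw [hk]; exact hcop.pow_left k) hd) h1
  have : IsCyclic P := isCyclic_of_prime_card hPp
  obtain ⟨σ', hσ'⟩ := IsCyclic.exists_ofOrder_eq_natCard (α := P)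
  rw [hPp] at hσ'
  set σ : G := σ'.1
  have hσ : orderOf σ = p := (Subgroup.orderOf_coe σ').trans hσ'
  have hPz : (P : Subgroup G) = zpowers σ := (eq_of_le_of_card_ge (zpowers_le.2 σ'.2) (by
    exact le_of_eq (hPp.trans ((Nat.card_zpowers σ).trans hσ).symm))).symm
  have hmov : ∀ x : α, σ • x ≠ x := by
    have hσp : orderOf (σ : Equiv.Perm α) = p := (Subgroup.orderOf_coe σ).trans hσ
    have hsc := Equiv.Perm.isCycle_of_prime_order' (by rw [hσp]; exact hp.out)
      (by rw [hσp, hα]; have := hp.out.two_le; omega)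
    have hsupp : (σ : Equiv.Perm α).support = Finset.univ := by
      apply Finset.eq_univ_of_card
      rw [← hsc.orderOf, hσp, hα]
    intro x hx
    exact Equiv.Perm.mem_support.1 (hsupp ▸ Finset.mem_univ x) hx
  obtain ⟨τ', hτ'⟩ := exists_prime_orderOf_dvd_card' 2 heven.two_dvd
  set τ : G := τ'.1
  have hτ : orderOf τ = 2 := (Subgroup.orderOf_coe τ').trans hτ'
  refine ⟨σ, τ, hσ, hτ, ?_, hmov⟩
  have hmem : τ * σ * τ⁻¹ ∈ (P : Subgroup G) := (mem_normalizer_iff.1 τ'.2 σ).1 σ'.2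
  rw [hPz, mem_zpowers_iff] at hmem
  obtain ⟨k, hk⟩ := hmem
  have hk2 : σ ^ (k * k) = σ := by
    have h1 : τ * (τ * σ * τ⁻¹) * τ⁻¹ = σ := by
      have ht : τ * τ = 1 := by rw [← sq, ← hτ, pow_orderOf_eq_one]
      have ht' : τ⁻¹ = τ := inv_eq_of_mul_eq_one_right ht
      rw [ht', show τ * (τ * σ * τ) * τ = (τ * τ) * σ * (τ * τ) by group, ht, one_mul, mul_one]
    rw [← hk, ← conj_zpow, ← hk, ← zpow_mul] at h1
    exact h1
  have hdiv : (p : ℤ) ∣ k * k - 1 := by
    rw [← hσ, orderOf_dvd_iff_zpow_eq_one, zpow_sub, hk2, zpow_one, mul_inv_cancel]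
  rw [show k * k - 1 = (k - 1) * (k + 1) by ring] at hdiv
  have hrec : ∀ l : ℤ, (p : ℤ) ∣ k - l → τ * σ * τ⁻¹ = σ ^ l := fun l hl => by
    rw [← hk]
    rw [← hσ, orderOf_dvd_iff_zpow_eq_one, zpow_sub, mul_inv_eq_one] at hl
    exact hl
  rcases (Nat.prime_iff_prime_int.1 hp.out).dvd_mul.1 hdiv with h | h
  · exfalso
    have hc : τ * σ * τ⁻¹ = σ := by simpa using hrec 1 h
    have hpg : IsPGroup 2 (zpowers τ) :=
      IsPGroup.of_card (n := 1) (by rw [Nat.card_zpowers, hτ, pow_one])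
    obtain ⟨b, hb⟩ := hpg.nonempty_fixed_point_of_prime_not_dvd_card α (by
      rw [Nat.card_eq_fintype_card, hα]
      exact fun h => hp2 ((Nat.prime_dvd_prime_iff_eq Nat.prime_two hp.out).1 h).symm)
    have hτb : τ • b = b := hb ⟨τ, mem_zpowers τ⟩
    obtain ⟨e, he0, -, hen⟩ := exists_cyclic_labelling hα hσ hmov b
    have hfix : ∀ x : α, τ • x = x := fun x => by
      obtain ⟨i, rfl⟩ := e.surjective x
      have h1 : e i = σ ^ i.val • b := by rw [← he0, hen, zero_add, ZMod.natCast_zmod_val]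
      have h2' : Commute τ (σ ^ i.val) :=
        Commute.pow_right (show τ * σ = σ * τ from mul_inv_eq_iff_eq_mul.1 hc) _
      rw [h1, ← mul_smul, h2'.eq, mul_smul, hτb]
    have : τ = 1 := Subtype.ext (Equiv.ext fun x => hfix x)
    rw [this, orderOf_one] at hτ
    norm_num at hτ
  · have := hrec (-1) (by simpa using h)
    rwa [zpow_neg_one] at this

end Cfsg.Agent.PrimeDegree
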